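import Mathlib
import Cfsg.Agent.Lib.MultC.HS.OutD

/-! generated certificate -/

set_option autoImplicit false
set_option maxRecDepth 100000
set_option Elab.async false

namespace CfsgLib.MultC.HS.O

open CfsgLib.Comput CfsgLib.MultC

open CfsgLib.Fischer

theorem v1 : wordsOK 176 8 U0 V1 [[0x4030404020301020403], [0x4020201030202]] = true := by decide +kernel
theorem v2 : wordsOK 176 8 U1 V2 [[0x70808090808], [0xa0a0909090a0a090809]] = true := by decide +kernel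
theorem v3 : wordsOK 176 8 U2 V3 [[0xd0e0e0b0e0e0d0e0b0c0c0c0b], [0xc0b0c0d0e0e0b0e0e], [0xd0e0d0e0e0e0b0e]] = true := by decide +kernel
theorem v4 : wordsOK 176 8 U3 V4 [[0x2090807080c0b0e0b14100f]] = true := by decide +kernel
theorem lb : Nat.ble 44352000 (lbVal (stepH W) 176 (toLB L0) []) = true := by decide +kernel
theorem lv0 : levOK (stepH W) 176 lev0 (letL (lev0 :: L1)) = true := by decide +kernel
theorem lv1 : levOK (stepH W) 176 lev1 (letL (lev1 :: L2)) = true := by decide +kernel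
theorem lv2 : levOK (stepH W) 176 lev2 (letL (lev2 :: L3)) = true := by decide +kernel
theorem lv3 : levOK (stepH W) 176 lev3 (letL (lev3 :: [])) = true := by decide +kernel
theorem hl : D.lOK (stepH W) (baseL L0) = true := by decide +kernel
theorem hb : D.basic (stepH W) 176 (baseL L0) = true := by decide +kernel
theorem a0 : eqOn (stepH W) (baseL L0) (1 :: [0, 0x90a0a, 0xb0c0c0c0b, 0x1410], [0, 0x90a0a, 0xb0c0c0c0b, 0x1410] ++ [21]) = true := by decide +kernel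
theorem a1 : powOK (stepH W) (baseL L0) 21 ma = true := by decide +kernel
theorem l1 : powOK (stepH W) (baseL L0) D.wl ml = true := by decide +kernel
noncomputable def ta1 : CT :=
  (.br 0 [21, 0x1515, 0x15151515, 0x161616] 1 0 0 0 (.ch 142 0 (.frc 21 0 60 0 (.frc 0x161616 1 34 0 (.frc 0x161616 0 124 0 (.leaf 0)))) (.ch 0 0x40201 (.frc 21 0 72 0x80908 (.ref 0x1515 0 0)) (.ch 1 0x60106 (.frc 21 0 159 0xa090808 (.ref 21 0 0)) (.ch 2 0x406020404 (.frc 21 0 31 0xa090a07 (.ref 21 0 0)) (.ch 3 0x405050303 (.frc 21 0 51 0x8090a0a09 (.ref 0x151515 0 0)) (.ch 4 0x50103 (.frc 21 0 154 0x909 (.ref 0x1515 0 0)) (.ch 5 0x10203 (.frc 21 0 84 0x90909090807 (.ref 21 0 0)) (.ch 6 0x102 (.frc 21 0 150 0xa09 (.ref 0x1515 0 0)) (.ch 7 0x404 (.frc 21 0 59 0x908070707 (.ref 21 0 0)) (.ch 8 0x4060403 (.frc 21 0 102 0xa090a070a (.ref 0x1616 1 0)) (.ch 11 0x103 (.frc 21 0 136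 9 (.ref 0x1616 1 0)) (.ch 14 0x4040601 (.frc 21 0 30 0x708070a09 (.ref 21 0 0)) (.ch 18 0x50506 (.frc 21 0 104 0x8090a0a09 (.ref 21 0 0)) (.ch 19 0x60101 (.frc 21 0 146 0x80909 (.ref 21 0 0)) (.ch 24 0x30304 (.frc 21 0 169 0xa07070808 (.ref 0x151515 0 0)) (.ch 25 0x4040604 (.frc 21 0 156 0x9090909 (.ref 21 0 0)) .nil)))))))))))))))))
theorem ca1 : CT.chk (stepH W) 176 (msk ma) [0] ta1 false L0 [] [] = true := by decide +kernel
noncomputable def tl2 : CT :=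
  (.br 0 [2, 0x202, 5] 1 0 0 0 (.ch 142 0 (.frc 2 0 60 0 (.frc 2 0 34 0 (.frc 2 0 124 0 (.leaf 0)))) (.ch 0 0x40201 (.frc 2 0 143 0x808090908 (.ref 0x202 0 0)) (.ch 1 0x60106 (.frc 2 0 146 0xa0a090808 (.frc 2 0 154 0xc0c0b0e (.ref 2 0 0))) (.ch 2 0x406020404 (.frc 2 0 162 0x70a07 (.ref 0x202 0 0)) (.ch 3 0x405050303 (.frc 2 0 157 0x9090a09 (.ref 0x202 0 0)) (.ch 4 0x50103 (.frc 2 0 77 0xa0908090809 (.frc 2 0 119 0xc0b0c0c (.frc 2 0 73 0x1214 (.fin 2 0)))) (.ch 5 0x10203 (.frc 2 0 11 0xa0a0908 (.frc 2 0 44 0xc0c0b0e (.ref 2 0 0))) (.ch 6 0x102 (.frc 2 0 45 0xa0a0908 (.frc 2 0 17 0xc0c0b0e (.ref 2 0 0))) (.ch 7 0x404 (.frc 2 0 84 0xa090a07 (.frc 2 0 166 0xd0e0e0d0c0d0c (.frc 2 0 64 0 (.fin 2 0)))) (.ch 8 0x4060403 (.frc 2 0 158 0x708090a (.ref 2 0 0)) (.cy 9 2 (.ch 10 0x4060102 (.frc 2 0 78 0xa0a0a0708 (.ref 2 0 0)) (.ch 12 0x504 (.frc 2 0 38 0x8080808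 (.ref 2 0 0)) (.ch 13 0x40604 (.frc 2 0 85 0x708090a (.ref 2 0 0)) (.ch 14 0x4040601 (.frc 2 0 37 0xa070708 (.ref 2 0 0)) (.ch 15 0x405050606 (.frc 2 0 163 0x9090a09 (.ref 0x202 0 0)) (.ch 18 0x50506 (.frc 2 0 160 0 (.frc 2 0 117 0 (.frc 2 0 92 0 (.leaf 1)))) (.ch 19 0x60101 (.frc 2 0 156 0xa070708 (.ref 2 0 0)) (.ch 20 0x4050503 (.frc 2 0 111 0x9090a09 (.ref 0x202 0 0)) (.ch 21 0x5040506 (.frc 2 0 144 0x8080808 (.ref 2 0 0)) (.ch 22 0x5040503 (.frc 2 0 113 0x8080808 (.ref 2 0 0)) (.ch 23 0x40301 (.frc 2 0 147 0xa090a070a (.ref 2 0 0)) (.ch 24 0x30304 (.frc 2 0 159 0x908070a09 (.frc 2 0 89 0xc0d0e0d0e (.frc 2 0 102 16 (.leaf 2)))) (.ch 26 0x4040606 (.frc 2 0 115 0xa090a07 (.frc 2 0 75 0xd0e0e0d0c0d0c (.frc 2 0 91 0 (.fin 2 0)))) (.ch 27 0x501 (.frc 2 0 161 0xa0908090809 (.frc 2 0 128 0xc0b0c0c (.frc 2 0 175 0x1214 (.fin 2 0)))) (.ch 28 0x5050403 (.frc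 2 0 71 7 (.frc 2 0 120 0xd0c0c0c0d0e (.ref 2 0 0))) (.ch 29 0x50503 (.frc 2 0 99 0 (.frc 2 0 93 0 (.frc 2 0 125 0 (.leaf 3)))) (.ch 32 0x4050506 (.frc 2 0 86 0x9090a09 (.ref 0x202 0 0)) (.ch 35 0x4060406 (.frc 2 0 56 0x708090a (.ref 2 0 0)) (.ch 39 0x40505 (.frc 2 0 68 0x9090a09 (.ref 0x202 0 0)) (.ch 40 0x4020106 (.frc 2 0 133 0x808090908 (.ref 0x202 0 0)) (.ch 41 0x4020103 (.frc 2 0 62 0x808090908 (.ref 0x202 0 0)) (.ch 43 0x50604 (.frc 2 0 132 0xa09090808 (.frc 2 0 149 0xd0e0d0c (.frc 2 0 139 0x1210 (.leaf 4)))) (.ch 46 0x40504 (.frc 2 0 47 7 (.frc 2 0 131 0xd0c0c0c0d0e (.ref 2 0 0))) (.ch 50 0x40406 (.frc 2 0 130 0xa090a07 (.frc 2 0 170 0xd0e0e0d0c0d0c (.frc 2 0 126 0 (.fin 2 0)))) (.ch 55 0x4020304 (.frc 2 0 83 0xa090a09 (.ref 0x202 0 0)) .nil)))))))))))))))))))))))))))))))))))))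
theorem cl2 : CT.chk (stepH W) 176 (msk ml) D.V tl2 false L0 [] [] = true := by decide +kernel
theorem cand0 : allIn (D.candOK (stepH W) 176) 0 50 = true := by decide +kernel
theorem ni0 : allIn (D.nonInn (stepH W) 176 [4] [0x3020206060202]) 0 25 = true := by decide +kernel

end CfsgLib.MultC.HS.O
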